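import Mathlib
import Groth.Prelude.Def_CAlgX
import Groth.Agent.H4Easy.Batch8

/-!
# Complexes of finite free modules given by matrices: split maps and ideals of minors
-/

set_option autoImplicit false
set_option linter.unusedSectionVars false
set_option linter.style.haveILetI false

universe u

namespace Groth.Agent.BECrit

variable {R : Type u} [CommRing R]

section Minors

variable {a b : ℕ} (M : Matrix (Fin a) (Fin b) R)

theorem minorIdeal_eq_bot {r : ℕ} (hr : b < r) : CAlgX.minorIdeal M r = ⊥ := by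
  rw [CAlgX.minorIdeal, Ideal.span_eq_bot]
  rintro _ ⟨⟨f, g⟩, rfl⟩
  obtain ⟨i, j, hij, hg⟩ : ∃ i j, i ≠ j ∧ g i = g j :=
    Fintype.exists_ne_map_eq_of_card_lt g (by simpa using hr)
  exact Matrix.det_zero_of_column_eq hij fun k => by simp [hg]

theorem minorIdeal_succ_le (r : ℕ) : CAlgX.minorIdeal M (r + 1) ≤ CAlgX.minorIdeal M r := by
  refine Ideal.span_le.2 ?_
  rintro _ ⟨⟨f, g⟩, rfl⟩
  change (M.submatrix f g).det ∈ CAlgX.minorIdeal M r
  rw [Matrix.det_succ_row_zero]
  refine Ideal.sum_mem _ fun j _ => Ideal.mul_mem_left _ _ ?_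
  rw [Matrix.submatrix_submatrix]
  exact Ideal.subset_span ⟨(f ∘ Fin.succ, g ∘ j.succAbove), rfl⟩

theorem minorIdeal_anti {r s : ℕ} (h : r ≤ s) : CAlgX.minorIdeal M s ≤ CAlgX.minorIdeal M r := by
  induction s, h using Nat.le_induction with
  | base => exact le_rfl
  | succ s _ ih => exact (minorIdeal_succ_le M s).trans ih

theorem bddAbove_rank : BddAbove {r : ℕ | CAlgX.minorIdeal M r ≠ ⊥} := ⟨b, fun r hr => by
  by_contra h
  exact hr (minorIdeal_eq_bot M (not_le.1 h))⟩

theorem minorIdeal_rank_succ : CAlgX.minorIdeal M (CAlgX.matrixRank M + 1) = ⊥ := by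
  by_contra h
  have : CAlgX.matrixRank M + 1 ≤ CAlgX.matrixRank M := le_csSup (bddAbove_rank M) h
  omega

theorem matrixRank_eq {r : ℕ} (h0 : CAlgX.minorIdeal M (r + 1) = ⊥) (h1 : CAlgX.minorIdeal M r ≠ ⊥) :
    CAlgX.matrixRank M = r := by
  refine le_antisymm (csSup_le ⟨r, h1⟩ fun s hs => ?_) (le_csSup (bddAbove_rank M) h1)
  by_contra h
  exact hs (le_bot_iff.1 ((minorIdeal_anti M (show r + 1 ≤ s by omega)).trans h0.le))

theorem minorIdeal_map {S : Type u} [CommRing S] (φ : R →+* S) (r : ℕ) :
    CAlgX.minorIdeal (M.map φ) r = (CAlgX.minorIdeal M r).map φ := by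
  rw [CAlgX.minorIdeal, CAlgX.minorIdeal, Ideal.map_span, ← Set.range_comp]
  congr 1
  refine congrArg Set.range (funext fun fg => ?_)
  show ((M.map φ).submatrix fg.1 fg.2).det = φ (M.submatrix fg.1 fg.2).det
  rw [RingHom.map_det, RingHom.mapMatrix_apply]
  rfl

end Minors

section Split

variable [IsLocalRing R] {a b : ℕ}

theorem finrank_add_quot {W N' : Submodule R (Fin a → R)} (h : IsCompl W N') :
    Module.Free R W ∧ Module.Free R ((Fin a → R) ⧸ W) ∧
      Module.finrank R W + Module.finrank R ((Fin a → R) ⧸ W) = a := by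
  have hW : Module.Finite R W :=
    Module.Finite.of_surjective (Submodule.linearProjOfIsCompl W N' h) (Submodule.linearProjOfIsCompl_surjective h)
  have hN : Module.Finite R N' :=
    Module.Finite.of_surjective (Submodule.linearProjOfIsCompl N' W h.symm)
      (Submodule.linearProjOfIsCompl_surjective h.symm)
  haveI : Module.Projective R W := Module.Projective.of_split W.subtype (Submodule.linearProjOfIsCompl W N' h)
    (LinearMap.ext fun w => Submodule.linearProjOfIsCompl_apply_left h w)
  haveI : Module.Projective R N' := Module.Projective.of_split N'.subtype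
    (Submodule.linearProjOfIsCompl N' W h.symm)
    (LinearMap.ext fun w => Submodule.linearProjOfIsCompl_apply_left h.symm w)
  haveI : Module.Free R W := Module.free_of_flat_of_isLocalRing
  haveI : Module.Free R N' := Module.free_of_flat_of_isLocalRing
  have e := Submodule.quotientEquivOfIsCompl W N' h
  refine ⟨inferInstance, Module.Free.of_equiv e.symm, ?_⟩
  rw [e.finrank_eq, ← Module.finrank_prod, (Submodule.prodEquivOfIsCompl W N' h).finrank_eq,
    Module.finrank_fin_fun]

theorem split_of_minor {r : ℕ} {M : Matrix (Fin a) (Fin b) R} (h0 : CAlgX.minorIdeal M (r + 1) = ⊥)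
    (h1 : CAlgX.minorIdeal M r = ⊤) :
    ∃ N', IsCompl (LinearMap.range M.mulVecLin) N' ∧ Module.finrank R (LinearMap.range M.mulVecLin) = r := by
  rcases Nat.eq_zero_or_pos r with rfl | hr
  · have hM : M = 0 := Matrix.ext fun i j => by
      have hmem : (M.submatrix (fun _ : Fin 1 => i) (fun _ : Fin 1 => j)).det ∈ CAlgX.minorIdeal M (0 + 1) :=
        Ideal.subset_span ⟨(fun _ => i, fun _ => j), rfl⟩
      rw [h0, Submodule.mem_bot, Matrix.det_fin_one] at hmem
      exact hmem
    have hr : LinearMap.range M.mulVecLin = ⊥ := by rw [hM, Matrix.mulVecLin_zero, LinearMap.range_zero]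
    refine ⟨⊤, hr ▸ isCompl_bot_top, ?_⟩
    rw [hr, finrank_bot]
  · exact (H4Easy.minorIdeal_iff_summand R a b r hr M).2 ⟨h0, h1⟩

theorem minor_of_split {M : Matrix (Fin a) (Fin b) R} {N' : Submodule R (Fin a → R)}
    (h : IsCompl (LinearMap.range M.mulVecLin) N') :
    CAlgX.minorIdeal M (Module.finrank R (LinearMap.range M.mulVecLin) + 1) = ⊥ ∧
      CAlgX.minorIdeal M (Module.finrank R (LinearMap.range M.mulVecLin)) = ⊤ := by
  rcases Nat.eq_zero_or_pos (Module.finrank R (LinearMap.range M.mulVecLin)) with hr | hr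
  · obtain ⟨hfree, -, -⟩ := finrank_add_quot h
    haveI := hfree
    haveI : Module.Finite R (LinearMap.range M.mulVecLin) := Module.Finite.range _
    haveI : Subsingleton (LinearMap.range M.mulVecLin) :=
      (Module.finBasisOfFinrankEq R (LinearMap.range M.mulVecLin) hr).equivFun.toEquiv.subsingleton
    have hM : ∀ i j, M i j = 0 := fun i j => by
      have h2 : (⟨_, ⟨Pi.single j (1 : R), rfl⟩⟩ : LinearMap.range M.mulVecLin) = 0 := Subsingleton.elim _ _
      have h3 := congrFun (congrArg Subtype.val h2) i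
      simpa [Matrix.mulVec_single_one] using h3
    rw [hr]
    refine ⟨?_, (Ideal.eq_top_iff_one _).2 (Ideal.subset_span ⟨(Fin.elim0, Fin.elim0), Matrix.det_fin_zero⟩)⟩
    rw [CAlgX.minorIdeal, Ideal.span_eq_bot]
    rintro _ ⟨⟨f, g⟩, rfl⟩
    exact (Matrix.det_fin_one _).trans (hM _ _)
  · exact (H4Easy.minorIdeal_iff_summand R a b _ hr M).1 ⟨N', h, rfl⟩

/-- Consecutive split maps of complementary ranks form an exact pair. -/
theorem ker_eq_of_split {c : ℕ} {W N' : Submodule R (Fin a → R)} (hW : IsCompl W N')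
    (D : (Fin a → R) →ₗ[R] (Fin c → R)) {N'' : Submodule R (Fin c → R)}
    (hD : IsCompl (LinearMap.range D) N'') (hWD : W ≤ LinearMap.ker D)
    (hrank : Module.finrank R W + Module.finrank R (LinearMap.range D) = a) : LinearMap.ker D = W := by
  obtain ⟨-, hQ, hsum⟩ := finrank_add_quot hW
  obtain ⟨hfree, -, -⟩ := finrank_add_quot hD
  haveI := hQ
  haveI := hfree
  haveI : Module.Finite R (LinearMap.range D) := Module.Finite.range _
  let Db : ((Fin a → R) ⧸ W) →ₗ[R] LinearMap.range D := W.liftQ D.rangeRestrict (by rwa [LinearMap.ker_rangeRestrict])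
  have hsurj : Function.Surjective Db := fun y => by
    obtain ⟨x, hx⟩ := D.surjective_rangeRestrict y
    exact ⟨Submodule.Quotient.mk x, hx⟩
  let e : LinearMap.range D ≃ₗ[R] ((Fin a → R) ⧸ W) := LinearEquiv.ofFinrankEq _ _ (by omega)
  have hinj : Function.Injective (e.toLinearMap ∘ₗ Db) :=
    OrzechProperty.injective_of_surjective_endomorphism _ (e.surjective.comp hsurj)
  refine le_antisymm (fun x hx => ?_) hWD
  rw [← Submodule.Quotient.mk_eq_zero W]
  refine hinj ?_
  show e (Db (Submodule.Quotient.mk x)) = e (Db 0)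
  rw [map_zero Db]
  exact congrArg e (Subtype.ext hx)

end Split

section Complex

variable (e : ℕ) (n : ℕ → ℕ) (A : (i : ℕ) → Matrix (Fin (n i)) (Fin (n (i + 1))) R)

/-- The image arriving at position `j`; zero at the top. -/
def img (j : ℕ) : Submodule R (Fin (n j) → R) := if j < e then LinearMap.range (A j).mulVecLin else ⊥

/-- Exactness at the positions `1, …, e`. -/
def ExactAll : Prop := ∀ i < e, LinearMap.ker (A i).mulVecLin = img e n A (i + 1)

theorem img_of_lt {j : ℕ} (h : j < e) : img e n A j = LinearMap.range (A j).mulVecLin := if_pos h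

theorem img_of_le {j : ℕ} (h : e ≤ j) : img e n A j = ⊥ := if_neg (not_lt.2 h)

theorem img_le_ker (hA : ∀ i, i + 2 ≤ e → A i * A (i + 1) = 0) (i : ℕ) :
    img e n A (i + 1) ≤ LinearMap.ker (A i).mulVecLin := by
  by_cases h : i + 1 < e
  · rw [img_of_lt e n A h]
    rintro _ ⟨w, rfl⟩
    rw [LinearMap.mem_ker, Matrix.mulVecLin_apply, Matrix.mulVecLin_apply, Matrix.mulVec_mulVec,
      hA i (by omega), Matrix.zero_mulVec]
  · rw [img_of_le e n A (by omega)]
    exact bot_le

theorem exactAll_iff (he : 1 ≤ e) : ExactAll e n A ↔ LinearMap.ker (A (e - 1)).mulVecLin = ⊥ ∧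
    ∀ i, i + 2 ≤ e → LinearMap.ker (A i).mulVecLin = LinearMap.range (A (i + 1)).mulVecLin := by
  constructor
  · exact fun h => ⟨(h (e - 1) (by omega)).trans (img_of_le e n A (by omega)),
      fun i hi => (h i (by omega)).trans (img_of_lt e n A (by omega))⟩
  · rintro ⟨h0, h1⟩ i hi
    by_cases h : i + 2 ≤ e
    · rw [h1 i h, img_of_lt e n A (by omega)]
    · obtain rfl : i = e - 1 := by omega
      rw [h0, img_of_le e n A (by omega)]

end Complex

end Groth.Agent.BECrit
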