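import Groth.Agent.BECrit.Transfer
import Groth.Agent.LocH.Depth
import Groth.Agent.LocH.Sequence
import Groth.Agent.LocH.Vanishing

/-!
# Exactness of a complex of free modules from exactness on the punctured spectrum and depth
-/

set_option autoImplicit false
set_option linter.unusedSectionVars false
set_option linter.style.haveILetI false

universe u

open CategoryTheory IsLocalRing

namespace Groth.Agent.BECrit

variable {R : Type u} [CommRing R] [IsLocalRing R] [IsNoetherianRing R]
variable (e : ℕ) (n : ℕ → ℕ) (A : (i : ℕ) → Matrix (Fin (n i)) (Fin (n (i + 1))) R)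

/-- The cokernel at position `j`. -/
abbrev Cok (j : ℕ) : Type u := (Fin (n j) → R) ⧸ img e n A j

theorem mem_img_of_torsion {i : ℕ} (hH : Subsingleton (LocCoh.H (maximalIdeal R) 0 (Cok e n A (i + 1))))
    {x : Fin (n (i + 1)) → R}
    (hx : ∀ p : Ideal R, p.IsPrime → p ≠ maximalIdeal R → ∃ t ∉ p, t • x ∈ img e n A (i + 1)) :
    x ∈ img e n A (i + 1) := by
  let J : Ideal R := (img e n A (i + 1)).comap (LinearMap.toSpanSingleton R _ x)
  have hrad : maximalIdeal R ≤ J.radical := by
    rw [Ideal.radical_eq_sInf]
    refine le_sInf fun p hp => ?_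
    obtain ⟨hJp, hp⟩ := hp
    by_contra hne
    obtain ⟨t, ht, htx⟩ := hx p hp fun h => hne h.ge
    exact ht (hJp (by rw [Submodule.mem_comap, LinearMap.toSpanSingleton_apply]; exact htx))
  obtain ⟨N, hN⟩ := Ideal.exists_pow_le_of_le_radical_of_fg hrad (IsNoetherian.noetherian _)
  have hmem : Submodule.Quotient.mk (p := img e n A (i + 1)) x ∈
      DRing.torsionSub (maximalIdeal R) (Cok e n A (i + 1)) := ⟨N, fun r hr => by
    rw [← Submodule.Quotient.mk_smul, Submodule.Quotient.mk_eq_zero]
    exact hN hr⟩
  rw [LocH.torsionSub_eq_bot_of_subsingleton hH, Submodule.mem_bot, Submodule.Quotient.mk_eq_zero] at hmem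
  exact hmem

/-- Exactness from depth and exactness on the punctured spectrum. -/
theorem exactAll_of_depth (hA : ∀ i, i + 2 ≤ e → A i * A (i + 1) = 0) (s : ℕ) (hse : s ≤ e)
    (hdepth : ∀ l < s, Subsingleton (LocCoh.H (maximalIdeal R) l R))
    (hcok : ∀ l < s, Subsingleton (LocCoh.H (maximalIdeal R) l (Cok e n A s)))
    (habove : ∀ i, s ≤ i → i < e → LinearMap.ker (A i).mulVecLin = img e n A (i + 1))
    (hloc : ∀ p : Ideal R, p.IsPrime → p ≠ maximalIdeal R → LocEx e n A p) : ExactAll e n A := by
  suffices key : ∀ k j, j + k = s → (∀ l < j, Subsingleton (LocCoh.H (maximalIdeal R) l (Cok e n A j))) ∧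
      ∀ i, j ≤ i → i < e → LinearMap.ker (A i).mulVecLin = img e n A (i + 1) from
    fun i hi => (key s 0 (zero_add s)).2 i (Nat.zero_le i) hi
  intro k
  induction k with
  | zero =>
    intro j hj
    obtain rfl : j = s := by omega
    exact ⟨hcok, habove⟩
  | succ k ih =>
    intro j hj
    obtain ⟨hH, hex⟩ := ih (j + 1) (by omega)
    have hje : j < e := by omega
    have hexj : LinearMap.ker (A j).mulVecLin = img e n A (j + 1) :=
      le_antisymm (fun x hx => mem_img_of_torsion e n A (hH 0 (Nat.succ_pos j))
        fun p hp hpm => hloc p hp hpm j hje x hx) (img_le_ker e n A hA j)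
    refine ⟨fun l hl => ?_, fun i hi hie => ?_⟩
    · let f : Cok e n A (j + 1) →ₗ[R] (Fin (n j) → R) :=
        (img e n A (j + 1)).liftQ (A j).mulVecLin hexj.ge
      have hf : LinearMap.range f = img e n A j := by
        rw [Submodule.range_liftQ, img_of_lt e n A hje]
      let S : ShortComplex (ModuleCat.{u} R) :=
        ShortComplex.mk (X₁ := ModuleCat.of R (Cok e n A (j + 1))) (X₂ := ModuleCat.of R (Fin (n j) → R))
          (X₃ := ModuleCat.of R (Cok e n A j)) (ModuleCat.ofHom f) (ModuleCat.ofHom (img e n A j).mkQ)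
          (ModuleCat.hom_ext (LinearMap.ext fun z => (Submodule.Quotient.mk_eq_zero _).2 (hf ▸ LinearMap.mem_range_self f z)))
      have hS : S.ShortExact :=
        { exact := (ShortComplex.ShortExact.moduleCat_exact_iff_function_exact S).2 (by
            show Function.Exact f (img e n A j).mkQ
            rw [LinearMap.exact_iff, Submodule.ker_mkQ, hf])
          mono_f := (ModuleCat.mono_iff_injective _).2 (LinearMap.ker_eq_bot.1
            (Submodule.ker_liftQ_eq_bot' _ _ hexj.symm))
          epi_g := (ModuleCat.epi_iff_surjective _).2 (img e n A j).mkQ_surjective }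
      exact LocH.subsingleton_X₃ hS l (LocH.subsingleton_pi (hdepth l (by omega)) (n j)) (hH (l + 1) (by omega))
    · rcases hi.eq_or_lt with rfl | hlt
      · exact hexj
      · exact hex i hlt hie

/-- Vanishing for a free cokernel. -/
theorem subsingleton_cok {j l : ℕ} [Module.Free R (Cok e n A j)] (h : Subsingleton (LocCoh.H (maximalIdeal R) l R)) :
    Subsingleton (LocCoh.H (maximalIdeal R) l (Cok e n A j)) := by
  let B := Module.Free.chooseBasis R (Cok e n A j)
  haveI : Fintype (Module.Free.ChooseBasisIndex R (Cok e n A j)) := Module.Free.ChooseBasisIndex.fintype R _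
  let q : Cok e n A j ≃ₗ[R] (Fin (Fintype.card (Module.Free.ChooseBasisIndex R (Cok e n A j))) → R) :=
    (B.reindex (Fintype.equivFin _)).equivFun
  have := LocH.subsingleton_pi h (Fintype.card (Module.Free.ChooseBasisIndex R (Cok e n A j)))
  exact ((localCohomology (maximalIdeal R) l).mapIso q.toModuleIso).toLinearEquiv.injective.subsingleton

end Groth.Agent.BECrit
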