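import Groth.Agent.BECrit.Core
import Groth.Agent.AusBuc.Basic
import Groth.Agent.LocH.DepthMisc
import Groth.Agent.SerreReg.Basic

/-!
# The exactness criterion of Buchsbaum and Eisenbud
-/

set_option autoImplicit false
set_option linter.unusedSectionVars false
set_option linter.style.haveILetI false

universe u

open IsLocalRing

namespace Groth.Agent.BECrit

section Sum

variable (n : ℕ → ℕ) {e : ℕ}

/-- The expected rank at position `j`. -/
def altSum (e j : ℕ) : ℤ := ∑ t ∈ Finset.Icc j e, (-1 : ℤ) ^ (t - j) * (n t : ℤ)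

theorem altSum_top : altSum n e e = n e := by simp [altSum]

theorem altSum_succ {j : ℕ} (h : j < e) : altSum n e j + altSum n e (j + 1) = n j := by
  have h1 : Finset.Icc j e = insert j (Finset.Icc (j + 1) e) := by
    ext t; simp only [Finset.mem_insert, Finset.mem_Icc]; omega
  rw [altSum, altSum, h1, Finset.sum_insert (by simp), Nat.sub_self, pow_zero, one_mul, add_assoc,
    ← Finset.sum_add_distrib, Finset.sum_eq_zero fun t ht => ?_, add_zero]
  rw [show t - j = t - (j + 1) + 1 by have := (Finset.mem_Icc.1 ht).1; omega, pow_succ]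
  ring

end Sum

variable {R : Type u} [CommRing R] [IsNoetherianRing R]
variable (e : ℕ) (n : ℕ → ℕ) (A : (i : ℕ) → Matrix (Fin (n i)) (Fin (n (i + 1))) R)

theorem subsingleton_H_atPrime (p : Ideal R) [p.IsPrime] {rs : List R} (hreg : RingTheory.Sequence.IsWeaklyRegular R rs)
    (hmem : ∀ r ∈ rs, r ∈ p) (l : ℕ) (hl : l < rs.length) :
    Subsingleton (LocCoh.H (maximalIdeal (Localization.AtPrime p)) l (Localization.AtPrime p)) :=
  LocH.subsingleton_of_isWeaklyRegular _ (rs.map (algebraMap R (Localization.AtPrime p))) _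
    (hreg.of_flat (S := Localization.AtPrime p))
    (fun r hr => by
      obtain ⟨a, ha, rfl⟩ := List.mem_map.1 hr
      exact (IsLocalization.AtPrime.to_map_mem_maximal_iff (Localization.AtPrime p) p a).2 (hmem a ha))
    l (by rw [List.length_map]; exact hl)

/-- The criterion is sufficient. -/
theorem exactAll_of_rank_of_det (he : 1 ≤ e) (hA : ∀ i, i + 2 ≤ e → A i * A (i + 1) = 0)
    (hrank : ∀ j, 1 ≤ j → j ≤ e → (CAlgX.matrixRank (A (j - 1)) : ℤ) = altSum n e j)
    (hdet : ∀ j, 1 ≤ j → j ≤ e → CAlgX.detIdeal (A (j - 1)) = ⊤ ∨ ∃ rs : List R,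
      rs.length = j ∧ (∀ r ∈ rs, r ∈ CAlgX.detIdeal (A (j - 1))) ∧ RingTheory.Sequence.IsRegular R rs) :
    ExactAll e n A := by
  classical
  have hρ : ∀ i < e, (CAlgX.matrixRank (A i) : ℤ) = altSum n e (i + 1) := fun i hi =>
    hrank (i + 1) (Nat.succ_pos i) hi
  have hI : ∀ i < e, CAlgX.detIdeal (A i) = ⊤ ∨ ∃ rs : List R,
      rs.length = i + 1 ∧ (∀ r ∈ rs, r ∈ CAlgX.detIdeal (A i)) ∧ RingTheory.Sequence.IsRegular R rs :=
    fun i hi => hdet (i + 1) (Nat.succ_pos i) hi
  suffices key : ∀ (N : ℕ) (p : Ideal R) [p.IsPrime], p.height = N → LocEx e n A p by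
    refine exactAll_of_locEx e n A hA fun p hp => ?_
    haveI := hp.isPrime
    obtain ⟨N, hN⟩ := ENat.ne_top_iff_exists.1 (Ideal.height_ne_top hp.ne_top)
    exact key N p hN.symm
  intro N
  induction N using Nat.strong_induction_on with
  | _ N ih =>
    intro p _ hpN
    refine locEx_of_exactAll_atPrime e n A p ?_
    let S := Localization.AtPrime p
    let bad := (Finset.range e).filter fun i => CAlgX.detIdeal (A i) ≤ p
    let s := bad.sup fun i => i + 1
    have hse : s ≤ e := Finset.sup_le fun i hi => Finset.mem_range.1 (Finset.mem_filter.1 hi).1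
    have hsplit : ∀ i, s ≤ i → i < e → ∃ N', IsCompl (LinearMap.range (mapA n A S i).mulVecLin) N' ∧
        Module.finrank S (LinearMap.range (mapA n A S i).mulVecLin) = CAlgX.matrixRank (A i) := by
      intro i hsi hie
      have hnle : ¬ CAlgX.detIdeal (A i) ≤ p := fun hle => by
        have h1 : i + 1 ≤ s := Finset.le_sup (f := fun i => i + 1) (Finset.mem_filter.2 ⟨Finset.mem_range.2 hie, hle⟩)
        omega
      obtain ⟨x, hx, hxp⟩ := SetLike.not_le_iff_exists.1 hnle
      refine split_of_minor ?_ ?_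
      · rw [minorIdeal_map, minorIdeal_rank_succ, Ideal.map_bot]
      · rw [minorIdeal_map]
        exact Ideal.eq_top_of_isUnit_mem _ (Ideal.mem_map_of_mem _ hx)
          (IsLocalization.map_units S (⟨x, hxp⟩ : p.primeCompl))
    have himg : ∀ j, s ≤ j → j ≤ e → ∃ N', IsCompl (img e n (mapA n A S) j) N' ∧
        (Module.finrank S (img e n (mapA n A S) j) : ℤ) = if j < e then altSum n e (j + 1) else 0 := by
      intro j hsj hje
      by_cases h : j < e
      · obtain ⟨N', hN', hr⟩ := hsplit j hsj h
        rw [img_of_lt e n _ h, if_pos h, hr]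
        exact ⟨N', hN', hρ j h⟩
      · rw [img_of_le e n _ (not_lt.1 h), if_neg h, finrank_bot]
        exact ⟨⊤, isCompl_bot_top, rfl⟩
    refine exactAll_of_depth e n (mapA n A S) (mapA_mul e n A S hA) s hse ?_ ?_ ?_ ?_
    · intro l hl
      have hne : bad.Nonempty := by
        by_contra h
        rw [Finset.not_nonempty_iff_eq_empty] at h
        simp [s, h] at hl
      obtain ⟨i, hi, his⟩ := Finset.exists_mem_eq_sup bad hne fun i => i + 1
      obtain ⟨hie, hle⟩ := Finset.mem_filter.1 hi
      rcases hI i (Finset.mem_range.1 hie) with htop | ⟨rs, hlen, hmem, hreg⟩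
      · exact absurd (top_le_iff.1 (htop ▸ hle)) (Ideal.IsPrime.ne_top ‹_›)
      · exact subsingleton_H_atPrime p hreg.toIsWeaklyRegular (fun r hr => hle (hmem r hr)) l (by
          have : s = i + 1 := his
          omega)
    · intro l hl
      obtain ⟨N', hN', -⟩ := himg s le_rfl hse
      haveI := (finrank_add_quot hN').2.1
      refine subsingleton_cok e n _ ?_
      have hne : bad.Nonempty := by
        by_contra h
        rw [Finset.not_nonempty_iff_eq_empty] at h
        simp [s, h] at hl
      obtain ⟨i, hi, his⟩ := Finset.exists_mem_eq_sup bad hne fun i => i + 1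
      obtain ⟨hie, hle⟩ := Finset.mem_filter.1 hi
      rcases hI i (Finset.mem_range.1 hie) with htop | ⟨rs, hlen, hmem, hreg⟩
      · exact absurd (top_le_iff.1 (htop ▸ hle)) (Ideal.IsPrime.ne_top ‹_›)
      · exact subsingleton_H_atPrime p hreg.toIsWeaklyRegular (fun r hr => hle (hmem r hr)) l (by
          have : s = i + 1 := his
          omega)
    · intro i hsi hie
      obtain ⟨N', hN', hr'⟩ := hsplit i hsi hie
      obtain ⟨N'', hN'', hr''⟩ := himg (i + 1) (by omega) hie
      refine ker_eq_of_split hN'' _ hN' (img_le_ker e n _ (mapA_mul e n A S hA) i) ?_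
      have h1 := hρ i hie
      rw [← hr'] at h1
      by_cases h : i + 1 < e
      · rw [if_pos h] at hr''
        have := altSum_succ n h
        omega
      · rw [if_neg h] at hr''
        obtain rfl : i + 1 = e := by omega
        rw [altSum_top] at h1
        omega
    · intro Q hQ hQm
      refine locEx_atPrime e n A p Q ?_
      have hlt : Q.comap (algebraMap R S) < p := by
        have hle : Q.comap (algebraMap R S) ≤ p := fun x hx => by
          by_contra hxp
          exact hQ.ne_top (Q.eq_top_of_isUnit_mem hx (IsLocalization.map_units S (⟨x, hxp⟩ : p.primeCompl)))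
        refine lt_of_le_of_ne hle fun heq => hQm ?_
        rw [← IsLocalization.map_under p.primeCompl S Q, Ideal.under_def, heq]
        exact IsLocalization.AtPrime.map_eq_maximalIdeal p S
      haveI : (Q.comap (algebraMap R S)).IsPrime := Ideal.IsPrime.comap _
      obtain ⟨M, hM⟩ := ENat.ne_top_iff_exists.1
        (Ideal.height_ne_top (Ideal.IsPrime.ne_top (inferInstance : (Q.comap (algebraMap R S)).IsPrime)))
      refine ih M ?_ _ hM.symm
      have h1 := Ideal.height_strict_mono_of_isPrime hlt
      rw [hpN, ← hM] at h1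
      exact_mod_cast h1

section Necessity

variable {S : Type u} [CommRing S] [IsLocalRing S] [IsNoetherianRing S]
variable (B : (i : ℕ) → Matrix (Fin (n i)) (Fin (n (i + 1))) S)

theorem pdLE_cok (hex : ExactAll e n B) : ∀ k j, j + k = e → SerreReg.PdLE S (Cok e n B j) k
  | 0, j, h => by
    obtain rfl : j = e := h
    exact (SerreReg.pdLE_zero_iff _).2
      (Module.Projective.of_equiv (Submodule.quotEquivOfEqBot _ (img_of_le j n B le_rfl)).symm)
  | k + 1, j, h => by
    rw [SerreReg.pdLE_succ_iff _ (Submodule.mkQ_surjective (img e n B j)) k]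
    exact SerreReg.pdLE_of_equiv (((Submodule.quotEquivOfEq _ _ (hex j (by omega)).symm).trans
      (B j).mulVecLin.quotKerEquivRange).trans (LinearEquiv.ofEq _ _
        (((Submodule.ker_mkQ _).trans (img_of_lt e n B (by omega))).symm))) (pdLE_cok hex k (j + 1) (by omega))

theorem projective_cok (hex : ExactAll e n B) : ∀ k j, SerreReg.PdLE S (Cok e n B j) k → j + k ≤ e →
    Module.Projective S (Cok e n B (j + k))
  | 0, _, h, _ => (SerreReg.pdLE_zero_iff _).1 h
  | k + 1, j, h, hle => by
    rw [SerreReg.pdLE_succ_iff _ (Submodule.mkQ_surjective (img e n B j)) k] at h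
    have h2 : SerreReg.PdLE S (Cok e n B (j + 1)) k :=
      SerreReg.pdLE_of_equiv (((Submodule.quotEquivOfEq _ _ (hex j (by omega)).symm).trans
        (B j).mulVecLin.quotKerEquivRange).trans (LinearEquiv.ofEq _ _
          (((Submodule.ker_mkQ _).trans (img_of_lt e n B (by omega))).symm))).symm h
    have h3 := projective_cok hex k (j + 1) h2 (by omega)
    rwa [show j + 1 + k = j + (k + 1) by omega] at h3

/-- Above the depth an exact complex of free modules splits. -/
theorem exists_isCompl_of_depth (hex : ExactAll e n B) {d : ℕ} (hd : LocCoh.depth S S = d) (i : ℕ) (hdi : d ≤ i)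
    (hie : i ≤ e) : ∃ N', IsCompl (img e n B i) N' := by
  classical
  have h0 : SerreReg.PdLE S (Cok e n B 0) d := by
    rcases subsingleton_or_nontrivial (Cok e n B 0) with hs | hs
    · exact SerreReg.pdLE_mono (Nat.zero_le d) ((SerreReg.pdLE_zero_iff _).2 Module.Projective.of_free)
    · have hfin : ∃ k, SerreReg.PdLE S (Cok e n B 0) k := ⟨e, pdLE_cok e n B hex e 0 (zero_add e)⟩
      obtain ⟨t, ht, -⟩ := AusBuc.depth_add_pd hd (Nat.find hfin) (Cok e n B 0) (Nat.find_spec hfin)
        fun e' he' => Nat.find_min hfin he'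
      exact SerreReg.pdLE_mono (by omega) (Nat.find_spec hfin)
  have h1 := projective_cok e n B hex i 0 (SerreReg.pdLE_mono hdi h0) (by omega)
  rw [zero_add] at h1
  obtain ⟨sec, hsec⟩ := Module.projective_lifting_property (img e n B i).mkQ LinearMap.id
    (img e n B i).mkQ_surjective
  have hq : ∀ z, (img e n B i).mkQ (sec z) = z := fun z => LinearMap.congr_fun hsec z
  refine ⟨LinearMap.range sec, ?_, ?_⟩
  · rw [Submodule.disjoint_def]
    rintro _ hx ⟨z, rfl⟩
    rw [show z = 0 from (hq z).symm.trans ((Submodule.Quotient.mk_eq_zero _).2 hx), map_zero]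
  · rw [codisjoint_iff, eq_top_iff]
    refine fun x _ => Submodule.mem_sup.2 ⟨x - sec ((img e n B i).mkQ x), ?_, _, ⟨_, rfl⟩, sub_add_cancel _ _⟩
    rw [← Submodule.Quotient.mk_eq_zero (img e n B i), Submodule.Quotient.mk_sub, sub_eq_zero]
    exact (hq _).symm

theorem finrank_range_eq_altSum (hex : ExactAll e n B) {d : ℕ} (hd : LocCoh.depth S S = d) :
    ∀ k i, i + 1 + k = e → d ≤ i →
      (Module.finrank S (LinearMap.range (B i).mulVecLin) : ℤ) = altSum n e (i + 1) := by
  intro k
  induction k with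
  | zero =>
    intro i hi hdi
    obtain rfl : i + 1 = e := hi
    have hinj : Function.Injective (B i).mulVecLin :=
      LinearMap.ker_eq_bot.1 ((hex i (by omega)).trans (img_of_le (i + 1) n B le_rfl))
    rw [LinearMap.finrank_range_of_inj hinj, Module.finrank_fin_fun, altSum_top]
  | succ k ih =>
    intro i hi hdi
    have h := ih (i + 1) (by omega) (by omega)
    obtain ⟨N', hN'⟩ := exists_isCompl_of_depth e n B hex hd (i + 1) (by omega) (by omega)
    obtain ⟨-, -, hsum⟩ := finrank_add_quot hN'
    rw [((Submodule.quotEquivOfEq _ _ (hex i (by omega)).symm).trans (B i).mulVecLin.quotKerEquivRange).finrank_eq,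
      img_of_lt e n B (by omega)] at hsum
    have := altSum_succ n (e := e) (show i + 1 < e by omega)
    omega

end Necessity

theorem atPrime_exact (hA : ∀ i, i + 2 ≤ e → A i * A (i + 1) = 0) (hex : ExactAll e n A) (p : Ideal R) [p.IsPrime] :
    ExactAll e n (mapA n A (Localization.AtPrime p)) :=
  exactAll_of_locEx e n _ (mapA_mul e n A _ hA) fun Q hQ => by
    haveI := hQ.isPrime
    exact locEx_atPrime e n A p Q (locEx_of_exactAll e n A hex (Ideal.comap_ne_top _ hQ.ne_top))

theorem exists_depth {S : Type u} [CommRing S] [IsLocalRing S] [IsNoetherianRing S] :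
    ∃ d : ℕ, LocCoh.depth S S = d := by
  obtain ⟨d, hd⟩ := ENat.ne_top_iff_exists.1 (LocH.idealDepth_ne_top (I := maximalIdeal S) (M := S) (by
    rw [smul_eq_mul, Ideal.mul_top]
    exact Ideal.IsPrime.ne_top inferInstance))
  exact ⟨d, hd.symm⟩

/-- At a prime of small depth the maps split with the expected ranks. -/
theorem minors_atPrime (hA : ∀ i, i + 2 ≤ e → A i * A (i + 1) = 0) (hex : ExactAll e n A) (p : Ideal R) [p.IsPrime]
    {d : ℕ} (hd : LocCoh.depth (Localization.AtPrime p) (Localization.AtPrime p) = d) (i : ℕ) (hdi : d ≤ i)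
    (hie : i < e) : ∃ r : ℕ, (r : ℤ) = altSum n e (i + 1) ∧
      (CAlgX.minorIdeal (A i) (r + 1)).map (algebraMap R (Localization.AtPrime p)) = ⊥ ∧
        (CAlgX.minorIdeal (A i) r).map (algebraMap R (Localization.AtPrime p)) = ⊤ := by
  obtain ⟨N', hN'⟩ := exists_isCompl_of_depth e n _ (atPrime_exact e n A hA hex p) hd i hdi hie.le
  rw [img_of_lt e n _ hie] at hN'
  have h := minor_of_split hN'
  rw [minorIdeal_map, minorIdeal_map] at h
  exact ⟨_, finrank_range_eq_altSum e n _ (atPrime_exact e n A hA hex p) hd (e - (i + 1)) i (by omega) hdi, h⟩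

theorem depth_eq_zero_of_isAssociatedPrime (q : Ideal R) [q.IsPrime] (hq : IsAssociatedPrime q R) :
    LocCoh.depth (Localization.AtPrime q) (Localization.AtPrime q) = (0 : ℕ) := by
  obtain ⟨d, hd⟩ := exists_depth (S := Localization.AtPrime q)
  suffices h : d = 0 by rw [hd, h]
  by_contra h
  obtain ⟨-, x, hx⟩ := isAssociatedPrime_iff.1 hq
  have hH := ((LocH.idealDepth_eq_iff d).1 hd).1 0 (Nat.pos_of_ne_zero h)
  have h0 : algebraMap R (Localization.AtPrime q) x ∈
      DRing.torsionSub (maximalIdeal (Localization.AtPrime q)) (Localization.AtPrime q) := ⟨1, fun a ha => by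
    rw [pow_one, ← IsLocalization.AtPrime.map_eq_maximalIdeal q (Localization.AtPrime q)] at ha
    refine Submodule.span_induction (p := fun a _ => a • algebraMap R (Localization.AtPrime q) x = 0) ?_ ?_ ?_ ?_ ha
    · rintro _ ⟨b, hb, rfl⟩
      have hb' : b • x = 0 := by
        rw [hx, SetLike.mem_coe, Submodule.mem_colon_singleton, Submodule.mem_bot] at hb
        exact hb
      rw [smul_eq_mul, ← map_mul, ← smul_eq_mul b x, hb', map_zero]
    · exact zero_smul _ _
    · intro a b _ _ ha hb; rw [add_smul, ha, hb, add_zero]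
    · intro c a _ ha; rw [smul_assoc, ha, smul_zero]⟩
  rw [LocH.torsionSub_eq_bot_of_subsingleton hH, Submodule.mem_bot] at h0
  obtain ⟨⟨t, ht⟩, htx⟩ := (IsLocalization.map_eq_zero_iff q.primeCompl (Localization.AtPrime q) x).1 h0
  refine ht ?_
  show t ∈ q
  rw [hx, Submodule.mem_colon_singleton, Submodule.mem_bot]
  exact htx

/-- The criterion is necessary, over a local ring. -/
theorem rank_and_det_of_exactAll [IsLocalRing R] (hA : ∀ i, i + 2 ≤ e → A i * A (i + 1) = 0)
    (hex : ExactAll e n A) (i : ℕ) (hi : i < e) :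
    (CAlgX.matrixRank (A i) : ℤ) = altSum n e (i + 1) ∧ (CAlgX.detIdeal (A i) = ⊤ ∨ ∃ rs : List R,
      rs.length = i + 1 ∧ (∀ r ∈ rs, r ∈ CAlgX.detIdeal (A i)) ∧ RingTheory.Sequence.IsRegular R rs) := by
  classical
  obtain ⟨q, hq⟩ := associatedPrimes.nonempty R R
  haveI : q.IsPrime := hq.isPrime
  obtain ⟨r, hr, -, hr1⟩ :=
    minors_atPrime e n A hA hex q (depth_eq_zero_of_isAssociatedPrime q hq) i (Nat.zero_le i) hi
  have hbot : CAlgX.minorIdeal (A i) (r + 1) = ⊥ := by
    rw [Submodule.eq_bot_iff]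
    intro x hx
    by_contra hne
    obtain ⟨P, hP, hle⟩ := exists_le_isAssociatedPrime_of_isNoetherianRing R x hne
    haveI : P.IsPrime := hP.isPrime
    obtain ⟨r', hr', hr0, -⟩ :=
      minors_atPrime e n A hA hex P (depth_eq_zero_of_isAssociatedPrime P hP) i (Nat.zero_le i) hi
    obtain rfl : r' = r := by exact_mod_cast hr'.trans hr.symm
    have h0 : algebraMap R (Localization.AtPrime P) x = 0 := by
      have := Ideal.mem_map_of_mem (algebraMap R (Localization.AtPrime P)) hx
      rwa [hr0, Submodule.mem_bot] at this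
    obtain ⟨⟨t, ht⟩, htx⟩ := (IsLocalization.map_eq_zero_iff P.primeCompl (Localization.AtPrime P) x).1 h0
    exact ht (hle (by rw [Submodule.mem_colon_singleton, Submodule.mem_bot]; exact htx))
  have hne : CAlgX.minorIdeal (A i) r ≠ ⊥ := fun h => by
    rw [h, Ideal.map_bot] at hr1
    exact bot_ne_top hr1
  have hrk := matrixRank_eq (A i) hbot hne
  refine ⟨by rw [hrk]; exact hr, ?_⟩
  rw [CAlgX.detIdeal, hrk]
  by_cases htop : CAlgX.minorIdeal (A i) r = ⊤
  · exact Or.inl htop
  right
  have hdep : ((i + 1 : ℕ) : ℕ∞) ≤ LocCoh.idealDepth (CAlgX.minorIdeal (A i) r) R := by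
    rw [LocH.le_idealDepth_iff_forall_prime]
    intro p hp
    rw [LocCoh.depth, LocH.idealDepth_congr
      (LinearEquiv.extendScalarsOfIsLocalization p.asIdeal.primeCompl (Localization.AtPrime p.asIdeal)
        (IsLocalizedModule.iso p.asIdeal.primeCompl (Algebra.linearMap R (Localization.AtPrime p.asIdeal))))]
    obtain ⟨d, hd⟩ := exists_depth (S := Localization.AtPrime p.asIdeal)
    rw [LocCoh.depth] at hd
    rw [hd, Nat.cast_le]
    by_contra hlt
    obtain ⟨r', hr', -, h1⟩ := minors_atPrime e n A hA hex p.asIdeal hd i (by omega) hi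
    obtain rfl : r' = r := by exact_mod_cast hr'.trans hr.symm
    exact (maximalIdeal.isMaximal (Localization.AtPrime p.asIdeal)).ne_top (top_le_iff.1 (h1 ▸
      (Ideal.map_mono hp).trans (IsLocalization.AtPrime.map_eq_maximalIdeal p.asIdeal _).le))
  obtain ⟨rs, hlen, hreg, hmem⟩ := LocH.exists_isWeaklyRegular _ (i + 1) R ((LocH.le_idealDepth_iff _ _ _).1 hdep)
  exact ⟨rs, hlen, hmem, (IsLocalRing.isRegular_iff_isWeaklyRegular_of_subset_maximalIdeal
    fun x hx => IsLocalRing.le_maximalIdeal htop (hmem x hx)).2 hreg⟩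

end Groth.Agent.BECrit
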