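import Groth.Agent.BECrit.Basic

/-!
# Exactness of a complex of matrices and localization
-/

set_option autoImplicit false
set_option linter.unusedSectionVars false
set_option linter.style.haveILetI false

universe u

namespace Groth.Agent.BECrit

variable {R : Type u} [CommRing R] (e : ℕ) (n : ℕ → ℕ) (A : (i : ℕ) → Matrix (Fin (n i)) (Fin (n (i + 1))) R)

/-- Exactness up to multipliers outside `p`. -/
def LocEx (p : Ideal R) : Prop :=
  ∀ i < e, ∀ x ∈ LinearMap.ker (A i).mulVecLin, ∃ t ∉ p, t • x ∈ img e n A (i + 1)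

theorem locEx_of_exactAll (h : ExactAll e n A) {p : Ideal R} (hp : p ≠ ⊤) : LocEx e n A p := fun i hi x hx =>
  ⟨1, fun h1 => hp ((Ideal.eq_top_iff_one p).2 h1), by rw [one_smul, ← h i hi]; exact hx⟩

theorem exactAll_of_locEx (hA : ∀ i, i + 2 ≤ e → A i * A (i + 1) = 0)
    (h : ∀ p : Ideal R, p.IsMaximal → LocEx e n A p) : ExactAll e n A := fun i hi => by
  refine le_antisymm (fun x hx => ?_) (img_le_ker e n A hA i)
  have htop : (img e n A (i + 1)).comap (LinearMap.toSpanSingleton R _ x) = ⊤ := by
    by_contra hne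
    obtain ⟨p, hp, hle⟩ := Ideal.exists_le_maximal _ hne
    obtain ⟨t, ht, htx⟩ := h p hp i hi x hx
    exact ht (hle (by rw [Submodule.mem_comap, LinearMap.toSpanSingleton_apply]; exact htx))
  have h1 : (1 : R) ∈ (img e n A (i + 1)).comap (LinearMap.toSpanSingleton R _ x) := by rw [htop]; trivial
  rwa [Submodule.mem_comap, LinearMap.toSpanSingleton_apply, one_smul] at h1

section Map

variable (S : Type u) [CommRing S] [Algebra R S]

/-- The matrices over the algebra `S`. -/
abbrev mapA (i : ℕ) : Matrix (Fin (n i)) (Fin (n (i + 1))) S := (A i).map (algebraMap R S)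

theorem mapA_mul (hA : ∀ i, i + 2 ≤ e → A i * A (i + 1) = 0) (i : ℕ) (hi : i + 2 ≤ e) :
    mapA n A S i * mapA n A S (i + 1) = 0 := by
  rw [← Matrix.map_mul, hA i hi, Matrix.map_zero _ (map_zero (algebraMap R S))]

theorem mulVec_map (i : ℕ) (y : Fin (n (i + 1)) → R) :
    (mapA n A S i).mulVec (algebraMap R S ∘ y) = algebraMap R S ∘ (A i).mulVec y :=
  funext fun l => (RingHom.map_mulVec (algebraMap R S) (A i) y l).symm

theorem map_mem_img {j : ℕ} {x : Fin (n j) → R} (hx : x ∈ img e n A j) :
    (algebraMap R S ∘ x) ∈ img e n (mapA n A S) j := by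
  by_cases h : j < e
  · rw [img_of_lt e n A h] at hx
    rw [img_of_lt e n _ h]
    obtain ⟨y, rfl⟩ := hx
    exact ⟨algebraMap R S ∘ y, mulVec_map n A S j y⟩
  · rw [img_of_le e n A (not_lt.1 h), Submodule.mem_bot] at hx
    rw [img_of_le e n _ (not_lt.1 h), Submodule.mem_bot, hx]
    exact funext fun _ => map_zero _

end Map

section Localization

variable (p : Ideal R) [p.IsPrime]

theorem exists_smul_eq {m : ℕ} {x y : Fin m → R}
    (h : algebraMap R (Localization.AtPrime p) ∘ x = algebraMap R (Localization.AtPrime p) ∘ y) :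
    ∃ c : p.primeCompl, (c : R) • x = (c : R) • y := by
  classical
  choose c hc using fun l =>
    (IsLocalization.eq_iff_exists p.primeCompl (Localization.AtPrime p)).1 (congrFun h l)
  refine ⟨∏ l, c l, funext fun l => ?_⟩
  simp only [Pi.smul_apply, smul_eq_mul, Submonoid.coe_finsetProd]
  obtain ⟨d, hd⟩ := Finset.dvd_prod_of_mem (fun l => (c l : R)) (Finset.mem_univ l)
  rw [hd, mul_comm (c l : R) d, mul_assoc, mul_assoc, hc l]

theorem exists_numerator {m : ℕ} (w : Fin m → Localization.AtPrime p) :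
    ∃ (b : p.primeCompl) (u : Fin m → R), algebraMap R (Localization.AtPrime p) ∘ u = (b : R) • w := by
  obtain ⟨b, hb⟩ := IsLocalization.exist_integer_multiples_of_finite p.primeCompl w
  choose u hu using hb
  exact ⟨b, u, funext fun l => hu l⟩

theorem algebraMap_comp_smul {m : ℕ} (c : R) (x : Fin m → R) :
    algebraMap R (Localization.AtPrime p) ∘ (c • x) =
      algebraMap R (Localization.AtPrime p) c • (algebraMap R (Localization.AtPrime p) ∘ x) :=
  funext fun l => map_mul _ _ _

/-- Exactness over the local ring at `p` gives exactness up to multipliers outside `p`. -/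
theorem locEx_of_exactAll_atPrime (h : ExactAll e n (mapA n A (Localization.AtPrime p))) : LocEx e n A p := by
  intro i hi x hx
  let S := Localization.AtPrime p
  rw [LinearMap.mem_ker, Matrix.mulVecLin_apply] at hx
  have h1 : (algebraMap R S ∘ x) ∈ img e n (mapA n A S) (i + 1) := by
    rw [← h i hi, LinearMap.mem_ker, Matrix.mulVecLin_apply, mulVec_map, hx]
    exact funext fun _ => map_zero _
  by_cases hlt : i + 1 < e
  · rw [img_of_lt e n _ hlt] at h1
    obtain ⟨w, hw⟩ := h1
    obtain ⟨b, u, hu⟩ := exists_numerator p w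
    have h2 : algebraMap R S ∘ (A (i + 1)).mulVec u = algebraMap R S ∘ ((b : R) • x) := by
      rw [← mulVec_map, hu, ← algebraMap_smul S (b : R) w, Matrix.mulVec_smul, algebraMap_comp_smul]
      exact congrArg _ hw
    obtain ⟨c, hc⟩ := exists_smul_eq p h2
    refine ⟨(c : R) * b, p.primeCompl.mul_mem c.2 b.2, ?_⟩
    rw [img_of_lt e n A hlt, mul_smul, ← hc]
    exact Submodule.smul_mem _ _ ⟨u, rfl⟩
  · rw [img_of_le e n _ (not_lt.1 hlt), Submodule.mem_bot] at h1
    obtain ⟨c, hc⟩ := exists_smul_eq p (x := x) (y := 0) (h1.trans (funext fun _ => (map_zero _).symm))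
    refine ⟨c, c.2, ?_⟩
    rw [hc, smul_zero]
    exact Submodule.zero_mem _

/-- Exactness up to multipliers outside a smaller prime passes to the local ring at `p`. -/
theorem locEx_atPrime (Q : Ideal (Localization.AtPrime p)) [Q.IsPrime]
    (h : LocEx e n A (Q.comap (algebraMap R (Localization.AtPrime p)))) :
    LocEx e n (mapA n A (Localization.AtPrime p)) Q := by
  intro i hi x hx
  let S := Localization.AtPrime p
  obtain ⟨b, u, hu⟩ := exists_numerator p x
  rw [LinearMap.mem_ker, Matrix.mulVecLin_apply] at hx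
  have h2 : algebraMap R S ∘ (A i).mulVec u = algebraMap R S ∘ (0 : Fin (n i) → R) := by
    rw [← mulVec_map, hu, ← algebraMap_smul S (b : R) x, Matrix.mulVec_smul, hx, smul_zero]
    exact funext fun _ => (map_zero _).symm
  obtain ⟨c, hc⟩ := exists_smul_eq p h2
  obtain ⟨t, ht, htx⟩ := h i hi ((c : R) • u) (by
    rw [LinearMap.mem_ker, map_smul, Matrix.mulVecLin_apply, hc, smul_zero])
  have hunit : ∀ d : p.primeCompl, algebraMap R S d ∉ Q := fun d hd =>
    Ideal.IsPrime.ne_top ‹_› (Q.eq_top_of_isUnit_mem hd (IsLocalization.map_units S d))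
  refine ⟨algebraMap R S t * algebraMap R S c * algebraMap R S b,
    Ideal.IsPrime.mul_notMem ‹_› (Ideal.IsPrime.mul_notMem ‹_› ht (hunit c)) (hunit b), ?_⟩
  have h3 := map_mem_img e n A S htx
  rw [algebraMap_comp_smul, algebraMap_comp_smul, hu, ← algebraMap_smul S (b : R) x, smul_smul, smul_smul] at h3
  exact h3

end Localization

end Groth.Agent.BECrit
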